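
/-!
# Data
-/

set_option autoImplicit false
set_option maxRecDepth 100000

namespace Cfsg.Agent.LyG2x94

/-- A relator number and its substituted word, for each long relator. -/
def srcs : List (Nat × List Nat) := [
  (0, [0,0,0,0,0,0,0,0]),
  (1, [2,2,2,2,2]),
  (2, [0,2,0,2,0,2,0,2]),
  (3, [1,1,3,0,0,2]),
  (4, [1,3,0,2,1,3,0,2,1,3,0,2]),
  (10, [4,4,4,4,4]),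
  (11, [5,1,5,0,4,1,4,0,5,1,5,0,4,1,4,0,5,1,5,0,4,1,4,0,5,1,5,0,4,1,4,0,5,1,5,0,4,1,4,0]),
  (12, [5,1,5,0,5,1,4,0,4,1,5,0,4,1,4,0]),
  (13, [1,5,5,0,5,1,4,0,4,1,4,0,5,1,5,0,4,1,4,0]),
  (14, [3,5,2,1,5,0,5,1,4,0,4,3,4,2,5,1,5,0,4,1,4,0]),
  (15, [2,5,3,1,5,0,5,1,4,0,4,2,4,3,5,1,5,0,4,1,4,0]),
  (16, [5,3,5,2,4,3,4,2,5,1,5,0,4,1,4,0,5,1,5,0,4,1,4,0]),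
  (17, [5,2,5,3,4,2,4,3,1,5,0,5,1,4,0,4,1,5,0,5,1,4,0,4]),
  (18, [1,5,0,3,5,2,1,4,0,3,4,2,5,1,5,0,4,1,4,0]),
  (19, [1,5,0,2,5,3,1,4,0,2,4,3]),
  (20, [3,5,2,2,5,3,3,4,2,2,4,3,5,1,5,0,4,1,4,0]),
  (21, [1,1,4,0,0,4,4]),
  (22, [1,3,4,2,0,2,5,3,5,3,4,4,2]),
  (23, [1,2,4,3,0,2,5,3,5,2,5,3,3,4,2,1,4,0,5]),
  (24, [1,5,1,5,0,4,1,4,0,5,0,5,1,4,0,4,1,5,0,5,1,4,0,4]),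
  (25, [3,1,4,0,2,2,4,3,4,2,4,3,3,5,2,1,5,0]),
  (26, [3,3,4,2,4,4,2,2,5,3,5,5]),
  (27, [3,5,1,5,0,4,1,4,0,2,1,5,0,5,1,4,0,4]),
  (28, [8,7,5,7,2,1,3,5,7,1,5,0,5,1,4,0,2,2]),
  (30, [9,4,8,4,3,3,5]),
  (31, [9,3,4,2,8,0,2,4,3,4,1,5,3,3]),
  (32, [9,2,4,3,8,2,5,3,3,4,3]),
  (33, [9,5,1,5,0,4,1,4,0,8,2,4,3,5,3,4,2,5]),
  (34, [8,0,0,8,2,4,3,1,5,0,5,1,4,2,1,3,3,1]),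
  (35, [9,2,8,2,4,4,3,3,4,2,5]),
  (36, [8,0,2,2,0,3,0,8,2,4,3,1,5,0,5,1,4,1]),
  (37, [8,1,4,0,8,1,5,0,8,1,4,0,2,5,3,0,3,4,2,0,0,0]),
  (38, [6,9,3,1,4,9,1,9,1,5,1,5,0,4,1,4,0,2,4,3,4,2,0,3,3,1]),
  (39, [6,6,1,1,1,1]),
  (40, [3,7,2,6]),
  (41, [7,0,6,1,1,1]),
  (42, [6,5,1,5,0,4,1,4,0,6,5,1,5,0,4,1,4,0,6,5,1,5,0,4,1,4,0,6,5,1,5,0,4,1,4,0,6,5,1,5,0,4,1,4,0]),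
  (43, [6,5,1,5,0,4,1,4,0,6,1,5,0,5,1,4,0,4,6,5,1,5,0,4,1,4,1])]

end Cfsg.Agent.LyG2x94
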