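import Cfsg.Prelude.Def_Spor_Ly

/-!
# Data
-/

set_option autoImplicit false
set_option maxRecDepth 100000

namespace Cfsg.Agent.LyG2x94

open Cfsg.Spor.Ly in
/-- Each generator as a word in a, b, c, d, z and inverses. -/
def genWord : Gen → List Nat
  | .a => [0]
  | .b => [2]
  | .c => [4]
  | .d => [6]
  | .z => [8]
  | .e => [3,3,1,5,0,4,1,4,0,6,4,2,0,3,6,4,6]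
  | .a1 => [0]
  | .a2 => [2,0,3]
  | .a3 => [2,2,0,3,3]
  | .a4 => [3,3,0,2,2]
  | .c1 => [4]
  | .c2 => [1,4,0]
  | .c3 => [3,4,2]
  | .c4 => [2,4,3]
  | .c5 => [5,1,5,0,4,1,4,0]
  | .u => [0,0]
  | .x23 => [6]
  | .x24 => [7]
  | .x25 => [2,2,1,3,1,2,2,5,0,4,1,5,6,5,2,2,1,4,2]
  | .x29 => [0,2,1,2,2,1,2,2,5,0,4,2,4,3,6,4,3,3,6,4,2,4]
  | .x47 => [5,7,1,5,1,2,5,7]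
  | .x96 => [2,6]
  | .x129 => [7,3]
  | .x162 => [1,3,1,2,5,3,0,5,2,0]
  | .x163 => [3,3,0,4,1,2,4,2]
  | .x164 => [1,3,1,4,0,2,0]
  | .x165 => [3,1,2,4,3,0,2]
  | .x166 => [2,2,1,3,4,2,0,4,3,3,5]
  | .x167 => [1,1,1]
  | .x168 => [2,1,3,1,1]
  | .x169 => [0,2,2,0,3,3,1]
  | .x364 => [1,6,3,5,1,2,5,7,2,5,3,1,5,0,3,0,2,0,3]
  | .x365 => [0,3,3,1,4,2,5,2,1,5,5,6,4,0,4,1,4,3,7]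
  | .x366 => [2,0,3,1,3,3,1,3,4,2,2,4,2,6,4,3,3,6,4,2,4]
  | .x367 => [5,3,5,7,2,2,5,7,3,5,3,3,5,2,0,2,2,0,2,1,3]
  | .x368 => [1,5,7,0,5,3,0,5,7,1,5,0,4,3,3,5,3,1,3,3]
  | .x369 => [1,5,7,2,1,3,5,7,2,1,3,5,3,0,3,3,0,3]
  | .x370 => [7,0,4,2,4,1,5,7,0,3,1,4,1,3,3,1,2,1]
  | .x371 => [5,1,4,2,5,7,4,1,4,0,4,3,1,3,1,2]

/-- The relators as words in five generators. -/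
def relWords : List (List Nat) := [
  [0,0,0,0,0,0,0,0],
  [2,2,2,2,2],
  [0,2,0,2,0,2,0,2],
  [1,1,3,0,0,2],
  [1,3,0,2,1,3,0,2,1,3,0,2],
  [],
  [],
  [],
  [],
  [],
  [4,4,4,4,4],
  [5,1,5,0,4,1,4,0,5,1,5,0,4,1,4,0,5,1,5,0,4,1,4,0,5,1,5,0,4,1,4,0,5,1,5,0,4,1,4,0],
  [5,1,5,0,5,1,4,0,4,1,5,0,4,1,4,0],
  [1,5,5,0,5,1,4,0,4,1,4,0,5,1,5,0,4,1,4,0],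
  [3,5,2,1,5,0,5,1,4,0,4,3,4,2,5,1,5,0,4,1,4,0],
  [2,5,3,1,5,0,5,1,4,0,4,2,4,3,5,1,5,0,4,1,4,0],
  [5,3,5,2,4,3,4,2,5,1,5,0,4,1,4,0,5,1,5,0,4,1,4,0],
  [5,2,5,3,4,2,4,3,1,5,0,5,1,4,0,4,1,5,0,5,1,4,0,4],
  [1,5,0,3,5,2,1,4,0,3,4,2,5,1,5,0,4,1,4,0],
  [1,5,0,2,5,3,1,4,0,2,4,3],
  [3,5,2,2,5,3,3,4,2,2,4,3,5,1,5,0,4,1,4,0],
  [1,1,4,0,0,4,4],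
  [1,3,4,2,0,2,5,3,5,3,4,4,2],
  [1,2,4,3,0,2,5,3,5,2,5,3,3,4,2,1,4,0,5],
  [1,5,1,5,0,4,1,4,0,5,0,5,1,4,0,4,1,5,0,5,1,4,0,4],
  [3,1,4,0,2,2,4,3,4,2,4,3,3,5,2,1,5,0],
  [3,3,4,2,4,4,2,2,5,3,5,5],
  [3,5,1,5,0,4,1,4,0,2,1,5,0,5,1,4,0,4],
  [],
  [3,3,1,5,0,4,1,4,0,6,4,2,0,3,6,4,6,3,3,1,5,0,4,1,4,0,6,4,2,0,3,6,4,6],
  [7,5,7,2,1,3,5,7,1,5,0,5,1,4,0,2,2,4,3,3,1,5,0,4,1,4,0,6,4,2,0,3,6,4,6,4,3,3,5],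
  [7,5,7,2,1,3,5,7,1,5,0,5,1,4,0,2,4,3,1,5,0,4,1,4,0,6,4,2,0,3,6,4,6,0,2,4,3,4,1,5,3,3],
  [7,5,7,2,1,3,5,7,1,5,0,5,1,4,0,2,2,2,4,3,3,3,1,5,0,4,1,4,0,6,4,2,0,3,6,4,6,2,5,3,3,4,3],
  [7,5,7,2,1,3,5,7,1,5,0,5,1,4,0,2,2,5,1,5,0,4,1,4,0,3,3,1,5,0,4,1,4,0,6,4,2,0,3,6,4,6,2,4,3,5,3,4,2,5],
  [3,3,1,5,0,4,1,4,0,6,4,2,0,3,6,4,6,0,0,3,3,1,5,0,4,1,4,0,6,4,2,0,3,6,4,6,2,4,3,1,5,0,5,1,4,2,1,3,3,1],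
  [7,5,7,2,1,3,5,7,1,5,0,5,1,4,0,2,1,5,0,4,1,4,0,6,4,2,0,3,6,4,6,2,4,4,3,3,4,2,5],
  [3,3,1,5,0,4,1,4,0,6,4,2,0,3,6,4,6,0,2,2,0,3,0,3,3,1,5,0,4,1,4,0,6,4,2,0,3,6,4,6,2,4,3,1,5,0,5,1,4,1],
  [3,3,1,5,0,4,1,4,0,6,4,2,0,3,6,4,6,1,4,0,3,3,1,5,0,4,1,4,0,6,4,2,0,3,6,4,6,1,5,0,3,3,1,5,0,4,1,4,0,6,4,2,0,3,6,4,6,1,4,0,2,5,3,0,3,4,2,0,0,0],
  [5,7,2,1,3,5,7,1,5,0,5,1,4,0,2,1,4,7,5,7,2,1,3,5,7,1,5,0,5,1,4,0,2,2,1,7,5,7,2,1,3,5,7,1,5,0,5,1,4,0,2,2,1,5,1,5,0,4,1,4,0,2,4,3,4,2,0,3,3,1],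
  [6,6,1,1,1,1],
  [3,7,2,6],
  [7,0,6,1,1,1],
  [6,5,1,5,0,4,1,4,0,6,5,1,5,0,4,1,4,0,6,5,1,5,0,4,1,4,0,6,5,1,5,0,4,1,4,0,6,5,1,5,0,4,1,4,0],
  [6,5,1,5,0,4,1,4,0,6,1,5,0,5,1,4,0,4,6,5,1,5,0,4,1,4,1],
  [],
  [],
  [],
  [],
  [],
  [],
  [],
  [],
  [],
  [],
  [],
  [],
  [],
  [],
  [],
  [],
  [],
  [],
  [],
  [],
  [],
  [],
  [],
  [],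
  [],
  [],
  [],
  [],
  [9,4,8,1,3,4,1,2,4,3,0,2,0],
  [9,1,4,0,8,3,5,3,0,5,1,2,2],
  [9,3,4,2,8,1,3,1,5,0,2,0],
  [9,2,4,3,8,3,1,2,5,3,0,2],
  [9,5,1,5,0,4,1,4,0,8,4,2,2,5,1,3,5,2,0,3,3],
  [9,0,8,0,0,0],
  [9,2,0,3,8,0,0,2,0,3],
  [9,2,2,0,3,3,8,0,2,2,1,3,3,1],
  [8,8,1,1],
  [3,3,0,2,2,8,3,3,0,2,2,8,3,3,0,2,2,8,0,0],
  [5,7,1,5,1,2,5,7,8,1,6,3,5,1,2,5,7,2,5,3,1,5,0,3,0,2,0,3,8,1,5,7,0,5,3,0,5,7,1,5,0,4,3,3,5,3,1,3,3,8],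
  [9,7,9,1,5,7,2,1,3,5,7,2,1,3,5,3,0,3,3,0,3,8,6,8,0,2,1,2,2,1,2,2,5,0,4,2,4,3,6,4,3,3,6,4,2,4],
  [8,2,0,3,1,3,3,1,3,4,2,2,4,2,6,4,3,3,6,4,2,4,8,0,3,3,1,4,2,5,2,1,5,5,6,4,0,4,1,4,3,7,9,5,3,5,7,2,2,5,7,3,5,3,3,5,2,0,2,2,0,2,1,3,9,7,0,4,2,4,1,5,7,0,3,1,4,1,3,3,1,2,1],
  [8,2,6,8,2,2,1,3,1,2,2,5,0,4,1,5,6,5,2,2,1,4,2,9,7,3,9,5,1,4,2,5,7,4,1,4,0,4,3,1,3,1,2]]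

end Cfsg.Agent.LyG2x94
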