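/-!
# Relators over nine letters
-/

set_option autoImplicit false
set_option maxRecDepth 100000

namespace Cfsg.Agent.LyG2x94

/-- The relators over the letters a, a⁻¹, b, b⁻¹, c, c⁻¹, d, d⁻¹, e. -/
def baseRels : List (List Nat) := [
  [0,1],
  [1,0],
  [2,3],
  [3,2],
  [4,5],
  [5,4],
  [6,7],
  [7,6],
  [8,8],
  [0,0,0,0,0,0,0,0],
  [2,2,2,2,2],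
  [0,2,0,2,0,2,0,2],
  [1,1,3,0,0,2],
  [1,3,0,2,1,3,0,2,1,3,0,2],
  [4,4,4,4,4],
  [5,1,5,0,4,1,4,0,5,1,5,0,4,1,4,0,5,1,5,0,4,1,4,0,5,1,5,0,4,1,4,0,5,1,5,0,4,1,4,0],
  [5,1,5,0,5,1,4,0,4,1,5,0,4,1,4,0],
  [1,5,5,0,5,1,4,0,4,1,4,0,5,1,5,0,4,1,4,0],
  [3,5,2,1,5,0,5,1,4,0,4,3,4,2,5,1,5,0,4,1,4,0],
  [2,5,3,1,5,0,5,1,4,0,4,2,4,3,5,1,5,0,4,1,4,0],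
  [5,3,5,2,4,3,4,2,5,1,5,0,4,1,4,0,5,1,5,0,4,1,4,0],
  [5,2,5,3,4,2,4,3,1,5,0,5,1,4,0,4,1,5,0,5,1,4,0,4],
  [1,5,0,3,5,2,1,4,0,3,4,2,5,1,5,0,4,1,4,0],
  [1,5,0,2,5,3,1,4,0,2,4,3],
  [3,5,2,2,5,3,3,4,2,2,4,3,5,1,5,0,4,1,4,0],
  [1,1,4,0,0,4,4],
  [1,3,4,2,0,2,5,3,5,3,4,4,2],
  [1,2,4,3,0,2,5,3,5,2,5,3,3,4,2,1,4,0,5],
  [1,5,1,5,0,4,1,4,0,5,0,5,1,4,0,4,1,5,0,5,1,4,0,4],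
  [3,1,4,0,2,2,4,3,4,2,4,3,3,5,2,1,5,0],
  [3,3,4,2,4,4,2,2,5,3,5,5],
  [3,5,1,5,0,4,1,4,0,2,1,5,0,5,1,4,0,4],
  [8,7,5,7,2,1,3,5,7,1,5,0,5,1,4,0,2,2],
  [8,4,8,4,3,3,5],
  [8,3,4,2,8,0,2,4,3,4,1,5,3,3],
  [8,2,4,3,8,2,5,3,3,4,3],
  [8,5,1,5,0,4,1,4,0,8,2,4,3,5,3,4,2,5],
  [8,0,0,8,2,4,3,1,5,0,5,1,4,2,1,3,3,1],
  [8,2,8,2,4,4,3,3,4,2,5],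
  [8,0,2,2,0,3,0,8,2,4,3,1,5,0,5,1,4,1],
  [8,1,4,0,8,1,5,0,8,1,4,0,2,5,3,0,3,4,2,0,0,0],
  [6,8,3,1,4,8,1,8,1,5,1,5,0,4,1,4,0,2,4,3,4,2,0,3,3,1],
  [6,6,1,1,1,1],
  [3,7,2,6],
  [7,0,6,1,1,1],
  [6,5,1,5,0,4,1,4,0,6,5,1,5,0,4,1,4,0,6,5,1,5,0,4,1,4,0,6,5,1,5,0,4,1,4,0,6,5,1,5,0,4,1,4,0],
  [6,5,1,5,0,4,1,4,0,6,1,5,0,5,1,4,0,4,6,5,1,5,0,4,1,4,1]]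

end Cfsg.Agent.LyG2x94
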