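import Cfsg.Agent.J4Rep94.Orbit
import Cfsg.Agent.LyG2x94.Rels

/-!
# Letters with inverses given by two-letter relators
-/

set_option autoImplicit false

namespace Cfsg.Agent.LyG2x94

open Cfsg.Agent.CosetEnum

theorem evalWord_pair {G : Type} [Group G] (val : ℕ → G) (x y : ℕ) :
    evalWord val [x, y] = val x * val y := by
  simp [evalWord]

theorem evalWord_hom {G H : Type} [Group G] [Group H] (φ : G →* H) (val : ℕ → G) :
    ∀ W : List ℕ, evalWord (fun l => φ (val l)) W = φ (evalWord val W)
  | [] => (map_one φ).symm
  | l :: ls => by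
    show φ (val l) * evalWord (fun l => φ (val l)) ls = φ (val l * evalWord val ls)
    rw [map_mul, evalWord_hom φ val ls]

theorem inv_of_rels {G : Type} [Group G] {val : ℕ → G}
    (hrels : ∀ W ∈ baseRels, evalWord val W = 1) {x y : ℕ} (h : [x, y] ∈ baseRels) :
    val y = (val x)⁻¹ := by
  have h1 := hrels _ h
  rw [evalWord_pair] at h1
  exact eq_inv_of_mul_eq_one_right h1

/-- The nine letters and the idle letter. -/
theorem letters_of {G : Type} [Group G] {S : Sys} {val : ℕ → G} (hnl : S.nl = 9)
    (hinv : (List.range 10).map S.inv = [1, 0, 3, 2, 5, 4, 7, 6, 8, 9]) (h9 : val 9 = 1)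
    (hrels : ∀ W ∈ baseRels, evalWord val W = 1) : Letters S val where
  ident := by rw [hnl]; exact h9
  inv l hl := by
    simp only [List.range_succ, List.range_zero, List.nil_append, List.map_append, List.map_cons,
      List.map_nil, List.cons_append, List.cons.injEq, and_true] at hinv
    obtain ⟨i0, i1, i2, i3, i4, i5, i6, i7, i8, i9⟩ := hinv
    have hlt : l < 10 := by omega
    interval_cases l
    · rw [i0]; exact inv_of_rels hrels (by decide)
    · rw [i1]; exact inv_of_rels hrels (by decide)
    · rw [i2]; exact inv_of_rels hrels (by decide)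
    · rw [i3]; exact inv_of_rels hrels (by decide)
    · rw [i4]; exact inv_of_rels hrels (by decide)
    · rw [i5]; exact inv_of_rels hrels (by decide)
    · rw [i6]; exact inv_of_rels hrels (by decide)
    · rw [i7]; exact inv_of_rels hrels (by decide)
    · rw [i8]; exact inv_of_rels hrels (by decide)
    · rw [i9, h9, inv_one]

end Cfsg.Agent.LyG2x94
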