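import Cfsg.Agent.LyG2x94.Units
import Cfsg.Agent.LyG2x94.Data14
import Cfsg.Agent.LyG2x94.Letters
import Cfsg.Prelude.Def_ChevG2

/-!
# Nine letters in the adjoint group of type G₂ over the field with five elements
-/

set_option autoImplicit false
set_option maxRecDepth 100000

namespace Cfsg.Agent.LyG2x94

open Cfsg.Agent.CosetEnum

instance fact_prime_five : Fact (Nat.Prime 5) := ⟨by norm_num⟩

/-- The coordinates. -/
abbrev I14 : Type := Cfsg.Lie.chevG2.Idx

/-- The position of a coordinate. -/
def pos14 : I14 ≃ Fin 14 := finSumFinEquiv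

/-- Inverse letters. -/
def ivs14 : List ℕ := [1, 0, 3, 2, 5, 4, 7, 6, 8]

theorem tab14_ok : tabB 14 tabs14 ivs14 = true := by decide +kernel

/-- Change of index set. -/
def phi14 : Matrix (Fin 14) (Fin 14) (ZMod 5) →* Matrix I14 I14 (ZMod 5) where
  toFun M := M.submatrix pos14 pos14
  map_one' := Matrix.submatrix_one_equiv pos14
  map_mul' M N := (Matrix.submatrix_mul_equiv M N pos14 pos14 pos14).symm

/-- The letters. -/
def gl14 (l : ℕ) : GL I14 (ZMod 5) :=
  Units.map phi14 (punit (by norm_num) (by norm_num) tab14_ok l)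

theorem gl14_word (W : List ℕ) :
    evalWord gl14 W = Units.map phi14 (evalWord (punit (by norm_num) (by norm_num) tab14_ok) W) :=
  evalWord_hom (Units.map phi14) _ W

theorem rels14_ok : baseRels.all (fun W => pwordIs 14 (ptab 14 tabs14) W (pone 14)) = true := by
  decide +kernel

theorem gl14_rels : ∀ W ∈ baseRels, evalWord gl14 W = 1 := fun W hW => by
  rw [gl14_word, punit_word_one _ _ _ (List.all_eq_true.1 rels14_ok W hW), map_one]

theorem gl14_nine : gl14 9 = 1 := by
  refine Units.ext ?_
  show phi14 (pmat 14 (ptab 14 tabs14 9)) = 1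
  rw [show ptab 14 tabs14 9 = pone 14 from List.getD_eq_default _ _ (by decide +kernel),
    (pone_spec (by norm_num : 0 < 14)).2, map_one]

/-- A word for a root element. -/
def rootWord (r t : ℕ) : List ℕ := repWord (rootWords.getD r []) t

/-- The check of a root element. -/
noncomputable def rootB (r : Fin Cfsg.Lie.chevG2.nroots) (t : ZMod 5) : Bool :=
  (rootWord r t.val).all (fun l => Nat.blt l 8) &&
    forceNat (pprod 14 (ptab 14 tabs14) (rootWord r t.val) (pone 14)) fun M =>
      ((List.ofFn fun i : Fin 2 => (Sum.inl i : I14)).all (fun i =>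
        decide (∀ j, pmat 14 M (pos14 i) (pos14 j) = Cfsg.Lie.chevG2.xMat (ZMod 5) r t i j)) &&
      (List.ofFn fun i : Fin 12 => (Sum.inr i : I14)).all (fun i =>
        decide (∀ j, pmat 14 M (pos14 i) (pos14 j) = Cfsg.Lie.chevG2.xMat (ZMod 5) r t i j)))

theorem roots_ok : ((List.ofFn fun r : Fin Cfsg.Lie.chevG2.nroots => r).all fun r =>
    (List.ofFn fun t : Fin 5 => (t : ZMod 5)).all fun t => rootB r t) = true := by decide +kernel

theorem root_word (r : Fin Cfsg.Lie.chevG2.nroots) (t : ZMod 5) :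
    (∀ l ∈ rootWord r t.val, l < 8) ∧
      ((evalWord gl14 (rootWord r t.val) : GL I14 (ZMod 5)) : Matrix I14 I14 (ZMod 5)) =
        Cfsg.Lie.chevG2.xMat (ZMod 5) r t := by
  have h := roots_ok
  simp only [List.all_eq_true, List.mem_ofFn, forall_exists_index, forall_apply_eq_imp_iff] at h
  have h' := h r t
  simp only [rootB, Bool.and_eq_true, List.all_eq_true, forceNat_eq, decide_eq_true_eq] at h'
  refine ⟨fun l hl => Nat.le_of_ble_eq_true (h'.1 l hl), ?_⟩
  rw [gl14_word, Units.coe_map,
    punit_word (M := pprod 14 (ptab 14 tabs14) (rootWord r t.val) (pone 14)) _ _ _ (Nat.beq_refl _)]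
  refine Matrix.ext fun i j => ?_
  rcases i with i | i
  · exact h'.2.1 _ (List.mem_ofFn.2 ⟨i, rfl⟩) j
  · exact h'.2.2 _ (List.mem_ofFn.2 ⟨i, rfl⟩) j

end Cfsg.Agent.LyG2x94
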