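import Cfsg.Agent.LyG2x94.Rho
import Cfsg.Agent.LyG2x94.GL14
import Cfsg.Agent.LyG2x94.LA.Cert
import Cfsg.Agent.LyG2x94.LU.Cert
import Cfsg.Agent.LyG2x94.LG.Cert
import Cfsg.Agent.ChevGroup.Mat.OrderG2
import Cfsg.Agent.ChevGroup.Mat.Inst
import Cfsg.Agent.ChevGroup.Mat.SimpleG2
import Cfsg.Agent.Lib.ChevCore.CommAll

/-!
# The subgroup of `Ly` on four generators is G₂(5)
-/

set_option autoImplicit false
set_option maxRecDepth 100000

namespace Cfsg.Agent.LyG2x94

open Cfsg.Agent.CosetEnum Cfsg.Agent.J4Rep94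
open Cfsg.Spor.Ly (Gen)

/-- The letters in the product. -/
def pairVal (l : ℕ) : Cfsg.Spor.Ly × GL I14 (ZMod 5) := (valLy l, gl14 l)

theorem pairVal_rels : ∀ W ∈ baseRels, evalWord pairVal W = 1 := fun W hW => Prod.ext
  ((evalWord_hom (MonoidHom.fst _ _) pairVal W).symm.trans (valLy_rels W hW))
  ((evalWord_hom (MonoidHom.snd _ _) pairVal W).symm.trans (gl14_rels W hW))

theorem pairVal_nine : pairVal 9 = 1 := Prod.ext rfl gl14_nine

/-- The subgroup generated by four letters in the product. -/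
def glue : Subgroup (Cfsg.Spor.Ly × GL I14 (ZMod 5)) := wspan pairVal LG.gens

theorem card_glue_le : Nat.card glue ≠ 0 ∧ Nat.card glue ≤ 5859000000 := by
  obtain ⟨a0, a1⟩ := LA.result_index pairVal pairVal_nine pairVal_rels
  obtain ⟨b0, b1⟩ := LU.result_index pairVal pairVal_nine pairVal_rels
  obtain ⟨c0, c1⟩ := LG.result_index pairVal pairVal_nine pairVal_rels
  rw [show LA.subs = [] from rfl, wspan_nil] at a0 a1
  rw [show LU.subs = LA.gens from rfl] at b0 b1
  rw [show LG.subs = LU.gens from rfl] at c0 c1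
  have hab : wspan pairVal LA.gens ≤ wspan pairVal LU.gens := wspan_mono _ (by decide)
  have hbc : wspan pairVal LU.gens ≤ wspan pairVal LG.gens := wspan_mono _ (by decide)
  have h : Nat.card glue = (⊥ : Subgroup _).relIndex (wspan pairVal LA.gens) *
      (wspan pairVal LA.gens).relIndex (wspan pairVal LU.gens) *
      (wspan pairVal LU.gens).relIndex glue := by
    rw [Subgroup.relIndex_mul_relIndex _ _ _ bot_le hab,
      Subgroup.relIndex_mul_relIndex (H := ⊥) (K := wspan pairVal LU.gens) (L := glue) bot_le hbc,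
      Subgroup.relIndex_bot_left]
  rw [h]
  refine ⟨Nat.mul_ne_zero (Nat.mul_ne_zero a0 b0) c0, ?_⟩
  exact (Nat.mul_le_mul (Nat.mul_le_mul a1 b1) c1).trans (by norm_num)

/-- The first projection. -/
def toLy : glue →* Cfsg.Spor.Ly := (MonoidHom.fst _ (GL I14 (ZMod 5))).comp glue.subtype

/-- The second projection. -/
def toChev : glue →* GL I14 (ZMod 5) := (MonoidHom.snd Cfsg.Spor.Ly _).comp glue.subtype

theorem pairVal_mem {l : ℕ} (hl : l < 8) : pairVal l ∈ glue := by
  have hg : ∀ x, [x] ∈ LG.gens → pairVal x ∈ glue := fun x hx => by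
    have h := evalWord_mem_wspan pairVal hx
    rwa [show evalWord pairVal [x] = pairVal x from mul_one _] at h
  have hi : ∀ x y, [x, y] ∈ baseRels → pairVal y = (pairVal x)⁻¹ := fun x y h =>
    inv_of_rels pairVal_rels h
  interval_cases l
  · exact hg 0 (by decide)
  · rw [hi 0 1 (by decide)]; exact inv_mem (hg 0 (by decide))
  · exact hg 2 (by decide)
  · rw [hi 2 3 (by decide)]; exact inv_mem (hg 2 (by decide))
  · exact hg 4 (by decide)
  · rw [hi 4 5 (by decide)]; exact inv_mem (hg 4 (by decide))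
  · exact hg 6 (by decide)
  · rw [hi 6 7 (by decide)]; exact inv_mem (hg 6 (by decide))

theorem word_mem : ∀ {W : List ℕ}, (∀ l ∈ W, l < 8) → evalWord pairVal W ∈ glue
  | [], _ => one_mem _
  | _ :: _, h => mul_mem (pairVal_mem (h _ List.mem_cons_self))
      (word_mem fun x hx => h x (List.mem_cons_of_mem _ hx))

theorem group_le : Cfsg.Lie.chevG2.group (ZMod 5) ≤ toChev.range := by
  rw [Cfsg.Lie.ChevalleyDatum.group, Subgroup.closure_le]
  rintro g ⟨r, t, hg⟩
  obtain ⟨hlt, hw⟩ := root_word r t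
  refine ⟨⟨_, word_mem hlt⟩, ?_⟩
  have e : evalWord gl14 (rootWord r t.val) = g := Units.ext (hw.trans hg.symm)
  rw [← e]
  exact (evalWord_hom (MonoidHom.snd Cfsg.Spor.Ly (GL I14 (ZMod 5))) pairVal _).symm

theorem card_chev : Nat.card ↥(Cfsg.Lie.chevG2.group (ZMod 5)) = 5859000000 := by
  rw [ChevGroup.TypeG2.card_group (ChevGroup.torusFacts_of_good ChevCore.commGoodG2.toGood)
    (ChevGroup.relsOfCommGood ChevCore.commGoodG2 (ZMod 5)) (ZMod.card 5)]
  norm_num

theorem toLy_range : toLy.range =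
    (Subgroup.closure ({Cfsg.Spor.Ly.a, Cfsg.Spor.Ly.b, Cfsg.Spor.Ly.c, Cfsg.Spor.Ly.d} :
      Set (FreeGroup Gen))).map mkLy := by
  rw [toLy, MonoidHom.range_comp, Subgroup.range_subtype, glue, wspan, MonoidHom.map_closure,
    MonoidHom.map_closure]
  congr 1
  ext x
  simp [LG.gens, evalWord, pairVal, valLy, fw, eq_comm]

theorem iso : Nonempty (((Subgroup.closure ({Cfsg.Spor.Ly.a, Cfsg.Spor.Ly.b, Cfsg.Spor.Ly.c,
    Cfsg.Spor.Ly.d} : Set (FreeGroup Gen))).map mkLy) ≃* ↥(Cfsg.Lie.chevG2.group (ZMod 5))) := by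
  haveI : Finite glue := Nat.finite_of_card_ne_zero card_glue_le.1
  haveI : Finite toChev.range := Finite.of_surjective _ toChev.rangeRestrict_surjective
  have hle : Nat.card toChev.range ≤ 5859000000 :=
    (Nat.card_le_card_of_surjective _ toChev.rangeRestrict_surjective).trans card_glue_le.2
  have hr : toChev.range = Cfsg.Lie.chevG2.group (ZMod 5) := by
    symm
    refine SetLike.coe_injective (Set.eq_of_subset_of_ncard_le group_le ?_ (Set.toFinite _))
    show Nat.card toChev.range ≤ Nat.card ↥(Cfsg.Lie.chevG2.group (ZMod 5))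
    rw [card_chev]
    exact hle
  have b2 : Function.Bijective toChev.rangeRestrict :=
    toChev.rangeRestrict_surjective.bijective_of_nat_card_le
      (by rw [hr, card_chev]; exact card_glue_le.2)
  let f : glue ≃* ↥(Cfsg.Lie.chevG2.group (ZMod 5)) :=
    (MulEquiv.ofBijective toChev.rangeRestrict b2).trans (MulEquiv.subgroupCongr hr)
  haveI hs : IsSimpleGroup ↥(Cfsg.Lie.chevG2.group (ZMod 5)) :=
    (ChevGroup.TypeG2.isSimple (ZMod 5) ⟨2, by decide, by decide⟩).1
  haveI : IsSimpleGroup glue := MulEquiv.isSimpleGroup f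
  have hinj : Function.Injective toLy := by
    rw [← MonoidHom.ker_eq_bot_iff]
    refine (IsSimpleGroup.eq_bot_or_eq_top_of_normal toLy.ker inferInstance).resolve_right ?_
    intro htop
    have h : (⟨pairVal 0, pairVal_mem (by norm_num)⟩ : glue) ∈ toLy.ker := by
      rw [htop]; exact Subgroup.mem_top _
    exact mk_a_ne h
  exact ⟨((MonoidHom.ofInjective hinj).trans (MulEquiv.subgroupCongr toLy_range)).symm.trans f⟩

end Cfsg.Agent.LyG2x94
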