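import Cfsg.Agent.LyG2x94.Letters
import Cfsg.Agent.LyG2x94.Data44
import Cfsg.Prelude.Def_Spor_Ly

/-!
# Nine letters in the presented group `Ly`
-/

set_option autoImplicit false
set_option maxRecDepth 100000

namespace Cfsg.Agent.LyG2x94

open Cfsg.Agent.CosetEnum
open Cfsg.Spor (Ly coxRelators)
open Cfsg.Spor.Ly (Gen)

/-- The relators of `Ly`. -/
abbrev lyRels : Set (FreeGroup Gen) :=
  Cfsg.Spor.coxRelators Cfsg.Spor.Ly.edges ∪ {r | r ∈ Cfsg.Spor.Ly.extra}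

/-- The quotient map. -/
def mkLy : FreeGroup Gen →* Ly := PresentedGroup.mk lyRels

theorem extra_length : Cfsg.Spor.Ly.extra.length = 86 := rfl

theorem mkLy_extra {k : ℕ} (hk : k < 86) : mkLy (Cfsg.Spor.Ly.extra.getD k 1) = 1 := by
  rw [List.getD_eq_getElem _ _ (by rw [extra_length]; exact hk)]
  exact PresentedGroup.one_of_mem (Or.inr (List.getElem_mem _))

/-- The value of a free letter. -/
def fw : ℕ → FreeGroup Gen
  | 0 => .of .a
  | 1 => (.of .a)⁻¹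
  | 2 => .of .b
  | 3 => (.of .b)⁻¹
  | 4 => .of .c
  | 5 => (.of .c)⁻¹
  | 6 => .of .d
  | 7 => (.of .d)⁻¹
  | 8 => .of .e
  | 9 => (.of .e)⁻¹
  | _ => 1

/-- Substitution for the five conjugates of `c`. -/
def sigma : Gen → FreeGroup Gen
  | .c1 => .of .c
  | .c2 => (.of .a)⁻¹ * .of .c * .of .a
  | .c3 => (.of .b)⁻¹ * .of .c * .of .b
  | .c4 => .of .b * .of .c * (.of .b)⁻¹
  | .c5 => (.of .c)⁻¹ * ((.of .a)⁻¹ * .of .c * .of .a)⁻¹ * .of .c * ((.of .a)⁻¹ * .of .c * .of .a)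
  | g => .of g

theorem mkLy_sigma : mkLy.comp (FreeGroup.lift sigma) = mkLy := by
  have e1 : mkLy (.of Gen.c1) = mkLy (.of Gen.c) := by
    have h := mkLy_extra (k := 5) (by norm_num)
    simp only [show Cfsg.Spor.Ly.extra.getD 5 1 = Cfsg.Spor.Ly.c1 * (Cfsg.Spor.Ly.c⁻¹) from rfl,
      map_mul, map_inv, mul_inv_eq_one] at h
    exact h
  have e2 : mkLy (.of Gen.c2) = (mkLy (.of Gen.a))⁻¹ * mkLy (.of Gen.c) * mkLy (.of Gen.a) := by
    have h := mkLy_extra (k := 6) (by norm_num)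
    simp only [show Cfsg.Spor.Ly.extra.getD 6 1 = Cfsg.Spor.Ly.c2 *
      ((Cfsg.Spor.Ly.a⁻¹ * Cfsg.Spor.Ly.c * Cfsg.Spor.Ly.a)⁻¹) from rfl,
      map_mul, map_inv, mul_inv_eq_one] at h
    exact h
  have e3 : mkLy (.of Gen.c3) = (mkLy (.of Gen.b))⁻¹ * mkLy (.of Gen.c) * mkLy (.of Gen.b) := by
    have h := mkLy_extra (k := 7) (by norm_num)
    simp only [show Cfsg.Spor.Ly.extra.getD 7 1 = Cfsg.Spor.Ly.c3 *
      ((Cfsg.Spor.Ly.b⁻¹ * Cfsg.Spor.Ly.c * Cfsg.Spor.Ly.b)⁻¹) from rfl,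
      map_mul, map_inv, mul_inv_eq_one] at h
    exact h
  have e4 : mkLy (.of Gen.c4) = mkLy (.of Gen.b) * mkLy (.of Gen.c) * (mkLy (.of Gen.b))⁻¹ := by
    have h := mkLy_extra (k := 8) (by norm_num)
    simp only [show Cfsg.Spor.Ly.extra.getD 8 1 = Cfsg.Spor.Ly.c4 *
      (((Cfsg.Spor.Ly.b⁻¹)⁻¹ * Cfsg.Spor.Ly.c * (Cfsg.Spor.Ly.b⁻¹))⁻¹) from rfl,
      map_mul, map_inv, inv_inv, mul_inv_eq_one] at h
    exact h
  have e5 : mkLy (.of Gen.c5) = (mkLy (.of Gen.c1))⁻¹ * (mkLy (.of Gen.c2))⁻¹ * mkLy (.of Gen.c1) *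
      mkLy (.of Gen.c2) := by
    have h := mkLy_extra (k := 9) (by norm_num)
    simp only [show Cfsg.Spor.Ly.extra.getD 9 1 = Cfsg.Spor.Ly.c5 * ((Cfsg.Spor.Ly.c1⁻¹ *
      Cfsg.Spor.Ly.c2⁻¹ * Cfsg.Spor.Ly.c1 * Cfsg.Spor.Ly.c2)⁻¹) from rfl,
      map_mul, map_inv, mul_inv_eq_one] at h
    exact h
  rw [e1, e2] at e5
  refine FreeGroup.ext_hom _ _ fun g => ?_
  rw [MonoidHom.comp_apply, FreeGroup.lift_apply_of]
  cases g <;> simp only [sigma, map_mul, map_inv, e1, e2, e3, e4, e5]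

/-- The value of a letter in `Ly`. -/
def valLy (l : ℕ) : Ly := if l = 9 then 1 else mkLy (fw l)

/-- Forget the sign of `e`. -/
def cl (l : ℕ) : ℕ := if l = 9 then 8 else l

theorem mk_e_sq : mkLy (.of Gen.e) * mkLy (.of Gen.e) = 1 := by
  have h := mkLy_extra (k := 29) (by norm_num)
  rw [show Cfsg.Spor.Ly.extra.getD 29 1 = Cfsg.Spor.Ly.e ^ 2 from rfl, map_pow, pow_two] at h
  exact h

theorem valLy_cl (l : ℕ) : valLy (cl l) = mkLy (fw l) := by
  rcases eq_or_ne l 9 with rfl | h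
  · show mkLy (.of Gen.e) = mkLy ((.of Gen.e)⁻¹)
    rw [map_inv, eq_inv_iff_mul_eq_one]
    exact mk_e_sq
  · simp [valLy, cl, h]

theorem evalWord_map {G : Type} [Group G] (val : ℕ → G) (f : ℕ → ℕ) :
    ∀ W : List ℕ, evalWord val (W.map f) = evalWord (fun l => val (f l)) W
  | [] => rfl
  | l :: ls => by
    show val (f l) * evalWord val (ls.map f) = _
    rw [evalWord_map val f ls]
    rfl

theorem srcs_ok : srcs.all (fun p => Nat.blt p.1 86 &&
    decide (FreeGroup.lift sigma (Cfsg.Spor.Ly.extra.getD p.1 1) = evalWord fw p.2)) = true := by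
  decide +kernel

theorem baseRels_split : baseRels =
    [[0, 1], [1, 0], [2, 3], [3, 2], [4, 5], [5, 4], [6, 7], [7, 6], [8, 8]] ++
      srcs.map (fun p => p.2.map cl) := by decide +kernel

theorem valLy_rels : ∀ W ∈ baseRels, evalWord valLy W = 1 := by
  rw [baseRels_split, List.forall_mem_append]
  refine ⟨?_, ?_⟩
  · simp only [List.forall_mem_cons, List.not_mem_nil, false_imp_iff, implies_true, and_true]
    simp [evalWord, valLy, fw, mk_e_sq]
  · intro W hW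
    obtain ⟨p, hp, rfl⟩ := List.mem_map.1 hW
    have h := List.all_eq_true.1 srcs_ok p hp
    simp only [Bool.and_eq_true, decide_eq_true_eq] at h
    rw [evalWord_map, funext valLy_cl, evalWord_hom mkLy fw, ← h.2]
    show (mkLy.comp (FreeGroup.lift sigma)) _ = 1
    rw [mkLy_sigma]
    exact mkLy_extra (Nat.le_of_ble_eq_true h.1)

end Cfsg.Agent.LyG2x94
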