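import Cfsg.Agent.LyG2x94.Pack
import Cfsg.Agent.Lib.CosetEnum.Bound

/-!
# Square matrices over the field with five elements inside one numeral
-/

set_option autoImplicit false

namespace Cfsg.Agent.LyG2x94

open Finset Cfsg.Agent.CosetEnum

/-- The mask of the first column. -/
def colMask (n : ℕ) : ℕ := 4095 * stride n n

/-- The mask of one row. -/
def rowMask (n : ℕ) : ℕ := 2 ^ (12 * n) - 1

/-- Sum of column times row. -/
noncomputable def mulSum (n A B cm rm : ℕ) : ℕ → ℕ
  | 0 => 0
  | k + 1 => Nat.add (mulSum n A B cm rm k)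
      (Nat.mul (Nat.land (Nat.shiftRight A (Nat.mul 12 k)) cm)
        (Nat.land (Nat.shiftRight B (Nat.mul 12 (Nat.mul n k))) rm))

/-- The product. -/
noncomputable def pmul (n A B : ℕ) : ℕ :=
  forceNat A fun A => forceNat B fun B => forceNat (colMask n) fun cm => forceNat (rowMask n) fun rm =>
    red (n * n) (mulSum n A B cm rm n)

/-- The unit matrix. -/
def pone (n : ℕ) : ℕ := stride (n + 1) n

/-- The matrix of a numeral. -/
def pmat (n N : ℕ) : Matrix (Fin n) (Fin n) (ZMod 5) :=
  fun i j => (lane N (n * (i : ℕ) + (j : ℕ)) : ZMod 5)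

/-- All lanes are canonical. -/
structure POK (n N : ℕ) : Prop where
  small : N < 4096 ^ (n * n)
  dig : ∀ p < n * n, lane N p < 5

/-- The check of `POK`. -/
noncomputable def pokB (n N : ℕ) : Bool := Nat.blt N (2 ^ (12 * (n * n))) && Nat.beq (red (n * n) N) N

theorem pok_of {n N : ℕ} (h : pokB n N = true) : POK n N := by
  rw [pokB, Bool.and_eq_true] at h
  have hs : N < 4096 ^ (n * n) := by
    rw [pow4096]; exact Nat.le_of_ble_eq_true h.1
  refine ⟨hs, fun p hp => ?_⟩
  have h2 := Nat.eq_of_beq_eq_true h.2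
  have h3 : red (n * n) (pack (n * n) (lane N)) = pack (n * n) (lane N) := by
    rw [pack_lane_of_lt hs]; exact h2
  rw [red_pack fun p _ => lane_lt N p] at h3
  have h4 := congrArg (fun M => lane M p) h3
  beta_reduce at h4
  have h5 : ∀ q < n * n, lane N q % 5 < 4096 := fun q _ => by omega
  rw [lane_pack (fun q _ => lane_lt N q) hp, lane_pack h5 hp] at h4
  omega

theorem idx_lt {n i j : ℕ} (hi : i < n) (hj : j < n) : n * i + j < n * n := by
  calc n * i + j < n * i + n := by omega
    _ = n * (i + 1) := by ring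
    _ ≤ n * n := Nat.mul_le_mul_left _ hi

theorem col_eq {n N k : ℕ} (hn : 0 < n) (hN : POK n N) (hk : k < n) :
    Nat.land (Nat.shiftRight N (Nat.mul 12 k)) (colMask n) =
      ∑ i ∈ range n, 4096 ^ (n * i) * lane N (n * i + k) := by
  show (N >>> (12 * k)) &&& colMask n = _
  have hg : ∀ p < n * n, (if p % n = 0 then 4095 else 0) < 4096 := fun p _ => by split <;> omega
  have hcm : colMask n = pack (n * n) (fun p => if p % n = 0 then 4095 else 0) := by
    rw [colMask, stride_eq hn, pack_blocks, Finset.mul_sum]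
    refine Finset.sum_congr rfl fun i _ => ?_
    rw [pack, Finset.sum_eq_single 0]
    · simp [mul_comm]
    · intro j hj hne
      have : (n * i + j) % n = j := by
        rw [Nat.mul_add_mod, Nat.mod_eq_of_lt (mem_range.1 hj)]
      simp [this, hne]
    · intro h; simp [hn] at h
  have hr : ∑ i ∈ range n, 4096 ^ (n * i) * lane N (n * i + k) =
      pack (n * n) (fun p => if p % n = 0 then lane N (p + k) else 0) := by
    rw [pack_blocks]
    refine Finset.sum_congr rfl fun i _ => ?_
    rw [pack, Finset.sum_eq_single 0]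
    · simp
    · intro j hj hne
      have : (n * i + j) % n = j := by
        rw [Nat.mul_add_mod, Nat.mod_eq_of_lt (mem_range.1 hj)]
      simp [this, hne]
    · intro h; simp [hn] at h
  rw [hr, hcm]
  have hf : ∀ p < n * n, (if p % n = 0 then lane N (p + k) else 0) < 4096 := fun p _ => by
    split
    · exact lane_lt _ _
    · omega
  refine Nat.eq_of_testBit_eq fun b => ?_
  rw [Nat.testBit_and, Nat.testBit_shiftRight, testBit_pack hg, testBit_pack hf]
  by_cases hb : b / 12 < n * n
  · by_cases hm : b / 12 % n = 0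
    · have h12 : b % 12 < 12 := Nat.mod_lt _ (by norm_num)
      have h4095 : Nat.testBit 4095 (b % 12) = true := by
        rw [show 4095 = 2 ^ 12 - 1 from rfl, Nat.testBit_two_pow_sub_one]; simp [h12]
      have e : 12 * (b / 12 + k) + b % 12 = 12 * k + b := by omega
      simp [hb, hm, h4095, lane_testBit, h12, e]
    · simp [hb, hm]
  · simp [hb]

theorem row_eq {n N k : ℕ} :
    Nat.land (Nat.shiftRight N (Nat.mul 12 (Nat.mul n k))) (rowMask n) =
      pack n (fun j => lane N (n * k + j)) := by
  show (N >>> (12 * (n * k))) &&& rowMask n = _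
  have hf : ∀ p < n, lane N (n * k + p) < 4096 := fun p _ => lane_lt _ _
  refine Nat.eq_of_testBit_eq fun b => ?_
  rw [rowMask, Nat.testBit_and, Nat.testBit_shiftRight, Nat.testBit_two_pow_sub_one,
    testBit_pack hf, lane_testBit]
  have h12 : b % 12 < 12 := Nat.mod_lt _ (by norm_num)
  have e : 12 * (n * k + b / 12) + b % 12 = 12 * (n * k) + b := by omega
  by_cases hb : b / 12 < n
  · have : b < 12 * n := by omega
    simp [hb, this, h12, e]
  · have : ¬ b < 12 * n := by omega
    simp [hb, this]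

theorem mulSum_eq {n A B : ℕ} (hn : 0 < n) (hA : POK n A) : ∀ m ≤ n,
    mulSum n A B (colMask n) (rowMask n) m =
      pack (n * n) (fun p => ∑ k ∈ range m, lane A (n * (p / n) + k) * lane B (n * k + p % n))
  | 0, _ => by simp [mulSum, pack_zero]
  | m + 1, hm => by
    rw [mulSum, mulSum_eq hn hA m (by omega), col_eq hn hA hm, row_eq]
    have hone : (∑ i ∈ range n, 4096 ^ (n * i) * lane A (n * i + m)) *
        pack n (fun j => lane B (n * m + j)) =
        pack (n * n) (fun p => lane A (n * (p / n) + m) * lane B (n * m + p % n)) := by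
      rw [pack_blocks, Finset.sum_mul]
      refine Finset.sum_congr rfl fun i _ => ?_
      rw [mul_assoc, pack_mul]
      congr 1
      refine pack_congr fun j hj => ?_
      rw [Nat.mul_add_mod, Nat.mod_eq_of_lt hj, Nat.mul_add_div hn, Nat.div_eq_of_lt hj, add_zero]
    simp only [Nat.add_eq, Nat.mul_eq]
    rw [hone, pack_add]
    exact pack_congr fun p _ => (Finset.sum_range_succ _ _).symm

theorem pmul_spec {n A B : ℕ} (hn : 0 < n) (hn' : n ≤ 255) (hA : POK n A) (hB : POK n B) :
    POK n (pmul n A B) ∧ pmat n (pmul n A B) = pmat n A * pmat n B := by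
  set F : ℕ → ℕ := fun p => ∑ k ∈ range n, lane A (n * (p / n) + k) * lane B (n * k + p % n) with hF
  have hFb : ∀ p < n * n, F p < 4096 := by
    intro p hp
    have hi : p / n < n := Nat.div_lt_of_lt_mul hp
    have hj : p % n < n := Nat.mod_lt _ hn
    have : F p ≤ ∑ _k ∈ range n, 16 := by
      refine Finset.sum_le_sum fun k hk => ?_
      have h1 := hA.dig _ (idx_lt hi (mem_range.1 hk))
      have h2 := hB.dig _ (idx_lt (mem_range.1 hk) hj)
      calc _ ≤ 4 * 4 := Nat.mul_le_mul (by omega) (by omega)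
        _ = 16 := by norm_num
    rw [Finset.sum_const, Finset.card_range, smul_eq_mul] at this
    omega
  have hG : ∀ p < n * n, F p % 5 < 4096 := fun p _ => by omega
  have he : pmul n A B = pack (n * n) (fun p => F p % 5) := by
    rw [pmul, forceNat_eq, forceNat_eq, forceNat_eq, forceNat_eq, mulSum_eq hn hA n le_rfl,
      red_pack hFb]
  refine ⟨⟨he ▸ pack_lt hG, fun p hp => ?_⟩, ?_⟩
  · rw [he, lane_pack hG hp]
    exact Nat.mod_lt _ (by norm_num)
  · ext i j
    have hp := idx_lt i.isLt j.isLt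
    show ((lane (pmul n A B) (n * (i : ℕ) + (j : ℕ)) : ℕ) : ZMod 5) = _
    rw [he, lane_pack hG hp, ZMod.natCast_mod, Matrix.mul_apply]
    simp only [hF, Nat.mul_add_div hn, Nat.div_eq_of_lt j.isLt, add_zero, Nat.mul_add_mod,
      Nat.mod_eq_of_lt j.isLt, Nat.cast_sum, Nat.cast_mul, pmat]
    rw [Fin.sum_univ_eq_sum_range
      (fun k => (lane A (n * (i : ℕ) + k) : ZMod 5) * (lane B (n * k + (j : ℕ)) : ZMod 5)) n]

theorem pone_spec {n : ℕ} (hn : 0 < n) : POK n (pone n) ∧ pmat n (pone n) = 1 := by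
  have he : pone n = pack (n * n) (fun p => if p % n = p / n then 1 else 0) := by
    rw [pone, stride_eq (by omega), pack_blocks]
    refine Finset.sum_congr rfl fun i hi => ?_
    have hi' := mem_range.1 hi
    rw [pack, Finset.sum_eq_single i]
    · rw [Nat.mul_add_mod, Nat.mod_eq_of_lt hi', Nat.mul_add_div hn, Nat.div_eq_of_lt hi', add_zero,
        if_pos rfl, one_mul, ← pow_add, add_mul, one_mul]
    · intro j hj hne
      have hj' := mem_range.1 hj
      rw [Nat.mul_add_mod, Nat.mod_eq_of_lt hj', Nat.mul_add_div hn, Nat.div_eq_of_lt hj', add_zero,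
        if_neg hne, zero_mul]
    · intro h; exact absurd hi h
  have hb : ∀ p < n * n, (if p % n = p / n then 1 else 0) < 4096 := fun p _ => by split <;> omega
  refine ⟨⟨he ▸ pack_lt hb, fun p hp => ?_⟩, ?_⟩
  · rw [he, lane_pack hb hp]
    split <;> omega
  · ext i j
    show ((lane (pone n) (n * (i : ℕ) + (j : ℕ)) : ℕ) : ZMod 5) = _
    rw [he, lane_pack hb (idx_lt i.isLt j.isLt), Nat.mul_add_mod, Nat.mod_eq_of_lt j.isLt,
      Nat.mul_add_div hn, Nat.div_eq_of_lt j.isLt, add_zero, Matrix.one_apply]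
    by_cases h : i = j
    · simp [h]
    · have : (j : ℕ) ≠ (i : ℕ) := fun e => h (Fin.ext e.symm)
      simp [h, this]

/-- Multiply along a word. -/
noncomputable def pprod (n : ℕ) (T : ℕ → ℕ) : List ℕ → ℕ → ℕ
  | [], v => v
  | l :: ls, v => forceNat v fun v => forceNat (pmul n v (T l)) fun v' => pprod n T ls v'

theorem pprod_spec {n : ℕ} {T : ℕ → ℕ} (hn : 0 < n) (hn' : n ≤ 255) : ∀ (W : List ℕ) (v : ℕ),
    (∀ l ∈ W, POK n (T l)) → POK n v → POK n (pprod n T W v) ∧
      pmat n (pprod n T W v) = pmat n v * (W.map fun l => pmat n (T l)).prod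
  | [], v, _, hv => ⟨hv, by simp [pprod]⟩
  | l :: ls, v, hT, hv => by
    have hl := hT l List.mem_cons_self
    have hm := pmul_spec hn hn' hv hl
    have h := pprod_spec hn hn' ls (pmul n v (T l)) (fun x hx => hT x (List.mem_cons_of_mem _ hx)) hm.1
    rw [pprod, forceNat_eq, forceNat_eq]
    refine ⟨h.1, ?_⟩
    rw [h.2, hm.2, List.map_cons, List.prod_cons, mul_assoc]

/-- A word has the given value. -/
noncomputable def pwordIs (n : ℕ) (T : ℕ → ℕ) (W : List ℕ) (M : ℕ) : Bool :=
  Nat.beq (pprod n T W (pone n)) M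

theorem pwordIs_spec {n : ℕ} {T : ℕ → ℕ} (hn : 0 < n) (hn' : n ≤ 255) (hT : ∀ l, POK n (T l))
    {W : List ℕ} {M : ℕ} (h : pwordIs n T W M = true) :
    (W.map fun l => pmat n (T l)).prod = pmat n M := by
  have h2 := (pprod_spec (T := T) hn hn' W (pone n) (fun l _ => hT l) (pone_spec hn).1).2
  rw [(pone_spec hn).2, one_mul] at h2
  rw [← h2, show pprod n T W (pone n) = M from Nat.eq_of_beq_eq_true h]

/-- The table of a list of numerals, with the unit matrix outside. -/
def ptab (n : ℕ) (Ts : List ℕ) (l : ℕ) : ℕ := Ts.getD l (pone n)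

theorem ptab_ok {n : ℕ} (hn : 0 < n) {Ts : List ℕ} (h : Ts.all (pokB n) = true) (l : ℕ) :
    POK n (ptab n Ts l) := by
  rw [ptab, List.getD_eq_getElem?_getD]
  cases e : Ts[l]? with
  | none => exact (pone_spec hn).1
  | some x =>
    refine pok_of ?_
    exact List.all_eq_true.1 h x (List.mem_of_getElem? e)

end Cfsg.Agent.LyG2x94
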