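import Cfsg.Agent.Lib.CosetEnum.Pack

/-!
# Numerals made of lanes of twelve bits
-/

set_option autoImplicit false

namespace Cfsg.Agent.LyG2x94

open Finset Cfsg.Agent.CosetEnum

/-- The numeral with the given lanes. -/
def pack (m : ℕ) (f : ℕ → ℕ) : ℕ := ∑ p ∈ range m, f p * 4096 ^ p

/-- A lane of a numeral. -/
def lane (N p : ℕ) : ℕ := N / 4096 ^ p % 4096

theorem pow4096 (m : ℕ) : 4096 ^ m = 2 ^ (12 * m) := by
  rw [pow_mul]
  norm_num

theorem pack_succ (m : ℕ) (f : ℕ → ℕ) : pack (m + 1) f = pack m f + f m * 4096 ^ m :=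
  Finset.sum_range_succ _ _

theorem pack_congr {m : ℕ} {f g : ℕ → ℕ} (h : ∀ p < m, f p = g p) : pack m f = pack m g :=
  Finset.sum_congr rfl fun p hp => by rw [h p (mem_range.1 hp)]

theorem pack_add (m : ℕ) (f g : ℕ → ℕ) : pack m f + pack m g = pack m (fun p => f p + g p) := by
  simp only [pack, add_mul, Finset.sum_add_distrib]

theorem pack_mul (m c : ℕ) (f : ℕ → ℕ) : c * pack m f = pack m (fun p => c * f p) := by
  simp only [pack, Finset.mul_sum, mul_assoc]

theorem pack_zero (m : ℕ) : pack m (fun _ => 0) = 0 := by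
  simp [pack]

theorem pack_sum (m : ℕ) (s : Finset ℕ) (F : ℕ → ℕ → ℕ) :
    ∑ k ∈ s, pack m (F k) = pack m (fun p => ∑ k ∈ s, F k p) := by
  simp only [pack, Finset.sum_mul]
  rw [Finset.sum_comm]

theorem pack_lt : ∀ {m : ℕ} {f : ℕ → ℕ}, (∀ p < m, f p < 4096) → pack m f < 4096 ^ m
  | 0, f, _ => by simp [pack]
  | m + 1, f, hf => by
    have h1 := pack_lt (m := m) (f := f) fun p hp => hf p (by omega)
    have h2 := hf m (by omega)
    rw [pack_succ]
    calc pack m f + f m * 4096 ^ m < 4096 ^ m + f m * 4096 ^ m := by omega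
      _ = (f m + 1) * 4096 ^ m := by ring
      _ ≤ 4096 * 4096 ^ m := Nat.mul_le_mul_right _ h2
      _ = 4096 ^ (m + 1) := by ring

theorem pack_lane (N : ℕ) : ∀ m, pack m (lane N) = N % 4096 ^ m
  | 0 => by simp [pack, Nat.mod_one]
  | m + 1 => by
    rw [pack_succ, pack_lane N m, lane, Nat.mod_pow_succ]
    ring

theorem pack_lane_of_lt {N m : ℕ} (h : N < 4096 ^ m) : pack m (lane N) = N := by
  rw [pack_lane, Nat.mod_eq_of_lt h]

theorem testBit_pack : ∀ {m : ℕ} {f : ℕ → ℕ}, (∀ p < m, f p < 4096) → ∀ i,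
    (pack m f).testBit i = (decide (i / 12 < m) && (f (i / 12)).testBit (i % 12))
  | 0, f, _, i => by simp [pack]
  | m + 1, f, hf, i => by
    have h1 := pack_lt (m := m) (f := f) fun p hp => hf p (by omega)
    rw [pow4096] at h1
    rw [pack_succ, pow4096, mul_comm (f m), add_comm (pack m f),
      Nat.testBit_two_pow_mul_add _ h1]
    split
    · rename_i hi
      rw [testBit_pack (fun p hp => hf p (by omega)) i]
      have : i / 12 < m := by omega
      simp [this, Nat.lt_succ_of_lt this]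
    · rename_i hi
      rcases Nat.lt_or_ge (i - 12 * m) 12 with h | h
      · have e1 : i / 12 = m := by omega
        have e2 : i % 12 = i - 12 * m := by omega
        simp [e1, e2]
      · have hlt : f m < 2 ^ (i - 12 * m) :=
          lt_of_lt_of_le (show f m < 2 ^ 12 by have := hf m (by omega); omega)
            (Nat.pow_le_pow_right (by norm_num) h)
        have : ¬ i / 12 < m + 1 := by omega
        simp [Nat.testBit_lt_two_pow hlt, this]

theorem lane_testBit (N p r : ℕ) :
    (lane N p).testBit r = (decide (r < 12) && N.testBit (12 * p + r)) := by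
  rw [lane, show 4096 = 2 ^ 12 from rfl, Nat.testBit_mod_two_pow, ← pow_mul,
    ← Nat.shiftRight_eq_div_pow, Nat.testBit_shiftRight]

theorem lane_pack {m : ℕ} {f : ℕ → ℕ} (hf : ∀ p < m, f p < 4096) {p : ℕ} (hp : p < m) :
    lane (pack m f) p = f p := by
  refine Nat.eq_of_testBit_eq fun r => ?_
  rw [lane_testBit, testBit_pack hf]
  rcases Nat.lt_or_ge r 12 with h | h
  · have e1 : (12 * p + r) / 12 = p := by omega
    have e2 : (12 * p + r) % 12 = r := by omega
    simp [h, e1, e2, hp]
  · have hlt : f p < 2 ^ r :=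
      lt_of_lt_of_le (show f p < 2 ^ 12 by have := hf p hp; omega)
        (Nat.pow_le_pow_right (by norm_num) h)
    simp [Nat.not_lt.2 h, Nat.testBit_lt_two_pow hlt]

theorem lane_lt (N p : ℕ) : lane N p < 4096 := Nat.mod_lt _ (by norm_num)

/-- Split a pack in blocks of `n` lanes. -/
theorem pack_blocks (n : ℕ) (f : ℕ → ℕ) : ∀ r, pack (r * n) f =
    ∑ i ∈ range r, 4096 ^ (n * i) * pack n (fun j => f (n * i + j))
  | 0 => by simp [pack]
  | r + 1 => by
    rw [Finset.sum_range_succ, ← pack_blocks n f r]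
    simp only [pack, Finset.mul_sum]
    rw [Nat.succ_mul, Finset.sum_range_add]
    congr 1
    refine Finset.sum_congr rfl fun j _ => ?_
    rw [mul_comm r n, pow_add]
    ring

/-- The geometric series with step `s`. -/
def stride (s r : ℕ) : ℕ := (4096 ^ (s * r) - 1) / (4096 ^ s - 1)

theorem stride_eq {s : ℕ} (hs : 0 < s) (r : ℕ) : stride s r = ∑ i ∈ range r, 4096 ^ (s * i) := by
  have h2 : 2 ≤ 4096 ^ s := by
    calc 2 ≤ 4096 ^ 1 := by norm_num
      _ ≤ 4096 ^ s := Nat.pow_le_pow_right (by norm_num) hs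
  simp only [stride, pow_mul]
  exact (Nat.geomSum_eq h2 r).symm

/-- The same lane everywhere. -/
def rep (m k : ℕ) : ℕ := k * stride 1 m

theorem rep_eq (m k : ℕ) : rep m k = pack m (fun _ => k) := by
  simp only [rep, stride_eq (by norm_num : 0 < 1), one_mul, Finset.mul_sum, pack]

theorem shr_and {m s k : ℕ} {f : ℕ → ℕ} (hs : s ≤ 12) (hk : k < 2 ^ (12 - s))
    (hf : ∀ p < m, f p < 4096) :
    Nat.land (Nat.shiftRight (pack m f) s) (rep m k) = pack m (fun p => (f p >>> s) &&& k) := by
  show (pack m f >>> s) &&& rep m k = _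
  have hk' : k < 4096 := lt_of_lt_of_le hk (by
    calc 2 ^ (12 - s) ≤ 2 ^ 12 := Nat.pow_le_pow_right (by norm_num) (by omega)
      _ = 4096 := by norm_num)
  have hg : ∀ p < m, (f p >>> s) &&& k < 4096 := fun p _ => lt_of_le_of_lt Nat.and_le_right hk'
  refine Nat.eq_of_testBit_eq fun i => ?_
  rw [Nat.testBit_and, Nat.testBit_shiftRight, rep_eq, testBit_pack hf,
    testBit_pack (f := fun _ => k) (fun _ _ => hk'), testBit_pack hg, Nat.testBit_and,
    Nat.testBit_shiftRight]
  rcases Nat.lt_or_ge (i % 12) (12 - s) with h | h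
  · have e1 : (s + i) / 12 = i / 12 := by omega
    have e2 : (s + i) % 12 = s + i % 12 := by omega
    rw [e1, e2]
    cases decide (i / 12 < m) <;> simp
  · rw [Nat.testBit_lt_two_pow (lt_of_lt_of_le hk (Nat.pow_le_pow_right (by norm_num) h))]
    simp

theorem pack_sub {m : ℕ} {f g : ℕ → ℕ} (h : ∀ p < m, g p ≤ f p) :
    Nat.sub (pack m f) (pack m g) = pack m (fun p => f p - g p) := by
  show pack m f - pack m g = _
  have : pack m (fun p => f p - g p) + pack m g = pack m f := by
    rw [pack_add]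
    exact pack_congr fun p hp => Nat.sub_add_cancel (h p hp)
  omega

/-- Sum of the three nibbles. -/
noncomputable def foldA (m N : ℕ) : ℕ :=
  forceNat (rep m 15) fun r =>
    Nat.add (Nat.add (Nat.land (Nat.shiftRight N 0) r) (Nat.land (Nat.shiftRight N 4) r))
      (Nat.land (Nat.shiftRight N 8) r)

/-- Sum of the two nibbles. -/
noncomputable def foldB (m N : ℕ) : ℕ :=
  forceNat (rep m 15) fun r =>
    Nat.add (Nat.land (Nat.shiftRight N 0) r) (Nat.land (Nat.shiftRight N 4) r)

/-- The last subtraction. -/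
noncomputable def foldC (m N : ℕ) : ℕ :=
  Nat.sub N (Nat.mul 5 (Nat.land (Nat.shiftRight (Nat.mul 13 N) 6) (rep m 63)))

/-- Reduce every lane modulo five. -/
noncomputable def red (m N : ℕ) : ℕ :=
  forceNat N fun N => forceNat (foldA m N) fun y => forceNat (foldB m y) fun z => foldC m z

def laneA (x : ℕ) : ℕ := ((x >>> 0) &&& 15) + ((x >>> 4) &&& 15) + ((x >>> 8) &&& 15)

def laneB (x : ℕ) : ℕ := ((x >>> 0) &&& 15) + ((x >>> 4) &&& 15)

def laneC (x : ℕ) : ℕ := x - 5 * (((13 * x) >>> 6) &&& 63)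

theorem laneA_le (x : ℕ) : laneA x ≤ 45 := by
  have h1 : (x >>> 0) &&& 15 ≤ 15 := Nat.and_le_right
  have h2 : (x >>> 4) &&& 15 ≤ 15 := Nat.and_le_right
  have h3 : (x >>> 8) &&& 15 ≤ 15 := Nat.and_le_right
  unfold laneA
  omega

theorem laneA_all : ∀ a < 64, ∀ b < 64, laneA (64 * a + b) % 5 = (64 * a + b) % 5 := by decide +kernel

theorem laneA_mod {x : ℕ} (hx : x < 4096) : laneA x % 5 = x % 5 := by
  have h := laneA_all (x / 64) (by omega) (x % 64) (by omega)
  rwa [Nat.div_add_mod] at h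

theorem laneB_ok : ∀ x ≤ 45, laneB x ≤ 17 ∧ laneB x % 5 = x % 5 := by decide +kernel

theorem laneC_ok : ∀ x ≤ 17, 13 * x < 4096 ∧ 5 * (((13 * x) >>> 6) &&& 63) ≤ x ∧
    laneC x = x % 5 := by decide +kernel

theorem red_pack {m : ℕ} {f : ℕ → ℕ} (hf : ∀ p < m, f p < 4096) :
    red m (pack m f) = pack m (fun p => f p % 5) := by
  have hA : foldA m (pack m f) = pack m (fun p => laneA (f p)) := by
    rw [foldA, forceNat_eq, shr_and (by norm_num) (by norm_num) hf,
      shr_and (by norm_num) (by norm_num) hf, shr_and (by norm_num) (by norm_num) hf]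
    simp only [Nat.add_eq]
    rw [pack_add, pack_add]
    rfl
  have hfA : ∀ p < m, laneA (f p) < 4096 := fun p _ => by have := laneA_le (f p); omega
  have hB : foldB m (pack m fun p => laneA (f p)) = pack m (fun p => laneB (laneA (f p))) := by
    rw [foldB, forceNat_eq, shr_and (by norm_num) (by norm_num) hfA,
      shr_and (by norm_num) (by norm_num) hfA]
    simp only [Nat.add_eq]
    rw [pack_add]
    rfl
  have hfB : ∀ p < m, laneB (laneA (f p)) ≤ 17 := fun p _ => (laneB_ok _ (laneA_le _)).1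
  have hC : foldC m (pack m fun p => laneB (laneA (f p))) =
      pack m (fun p => laneC (laneB (laneA (f p)))) := by
    have h13 : ∀ p < m, 13 * laneB (laneA (f p)) < 4096 := fun p hp =>
      (laneC_ok _ (hfB p hp)).1
    rw [foldC, show Nat.mul 13 (pack m fun p => laneB (laneA (f p))) =
        pack m (fun p => 13 * laneB (laneA (f p))) from pack_mul _ _ _,
      shr_and (by norm_num) (by norm_num) h13]
    show Nat.sub _ (5 * pack m _) = _
    rw [pack_mul, pack_sub fun p hp => (laneC_ok _ (hfB p hp)).2.1]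
    rfl
  rw [red, forceNat_eq, forceNat_eq, forceNat_eq, hA, hB, hC]
  refine pack_congr fun p hp => ?_
  rw [(laneC_ok _ (hfB p hp)).2.2, (laneB_ok _ (laneA_le _)).2, laneA_mod (hf p hp)]

end Cfsg.Agent.LyG2x94
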