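import Cfsg.Agent.LyG2x94.PMat
import Cfsg.Agent.LyG2x94.Data111
import Cfsg.Agent.LyG2x94.DataWords

/-!
# Relators in the representation of degree 111
-/

set_option autoImplicit false
set_option maxRecDepth 100000

namespace Cfsg.Agent.LyG2x94

theorem rel_ok0 : pwordIs 111 (ptab 111 tabs111) (relWords.getD 0 []) (pone 111) = true := by decide +kernel

theorem rel_ok1 : pwordIs 111 (ptab 111 tabs111) (relWords.getD 1 []) (pone 111) = true := by decide +kernel

theorem rel_ok2 : pwordIs 111 (ptab 111 tabs111) (relWords.getD 2 []) (pone 111) = true := by decide +kernel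

theorem rel_ok3 : pwordIs 111 (ptab 111 tabs111) (relWords.getD 3 []) (pone 111) = true := by decide +kernel

theorem rel_ok4 : pwordIs 111 (ptab 111 tabs111) (relWords.getD 4 []) (pone 111) = true := by decide +kernel

theorem rel_ok5 : pwordIs 111 (ptab 111 tabs111) (relWords.getD 5 []) (pone 111) = true := by decide +kernel

theorem rel_ok6 : pwordIs 111 (ptab 111 tabs111) (relWords.getD 6 []) (pone 111) = true := by decide +kernel

theorem rel_ok7 : pwordIs 111 (ptab 111 tabs111) (relWords.getD 7 []) (pone 111) = true := by decide +kernel

theorem rel_ok8 : pwordIs 111 (ptab 111 tabs111) (relWords.getD 8 []) (pone 111) = true := by decide +kernel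

theorem rel_ok9 : pwordIs 111 (ptab 111 tabs111) (relWords.getD 9 []) (pone 111) = true := by decide +kernel

theorem rel_ok10 : pwordIs 111 (ptab 111 tabs111) (relWords.getD 10 []) (pone 111) = true := by decide +kernel

theorem rel_ok11 : pwordIs 111 (ptab 111 tabs111) (relWords.getD 11 []) (pone 111) = true := by decide +kernel

theorem rel_ok12 : pwordIs 111 (ptab 111 tabs111) (relWords.getD 12 []) (pone 111) = true := by decide +kernel

theorem rel_ok13 : pwordIs 111 (ptab 111 tabs111) (relWords.getD 13 []) (pone 111) = true := by decide +kernel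

theorem rel_ok14 : pwordIs 111 (ptab 111 tabs111) (relWords.getD 14 []) (pone 111) = true := by decide +kernel

theorem rel_ok15 : pwordIs 111 (ptab 111 tabs111) (relWords.getD 15 []) (pone 111) = true := by decide +kernel

theorem rel_ok16 : pwordIs 111 (ptab 111 tabs111) (relWords.getD 16 []) (pone 111) = true := by decide +kernel

theorem rel_ok17 : pwordIs 111 (ptab 111 tabs111) (relWords.getD 17 []) (pone 111) = true := by decide +kernel

theorem rel_ok18 : pwordIs 111 (ptab 111 tabs111) (relWords.getD 18 []) (pone 111) = true := by decide +kernel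

theorem rel_ok19 : pwordIs 111 (ptab 111 tabs111) (relWords.getD 19 []) (pone 111) = true := by decide +kernel

theorem rel_ok20 : pwordIs 111 (ptab 111 tabs111) (relWords.getD 20 []) (pone 111) = true := by decide +kernel

theorem rel_ok21 : pwordIs 111 (ptab 111 tabs111) (relWords.getD 21 []) (pone 111) = true := by decide +kernel

theorem rel_ok22 : pwordIs 111 (ptab 111 tabs111) (relWords.getD 22 []) (pone 111) = true := by decide +kernel

theorem rel_ok23 : pwordIs 111 (ptab 111 tabs111) (relWords.getD 23 []) (pone 111) = true := by decide +kernel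

theorem rel_ok24 : pwordIs 111 (ptab 111 tabs111) (relWords.getD 24 []) (pone 111) = true := by decide +kernel

theorem rel_ok25 : pwordIs 111 (ptab 111 tabs111) (relWords.getD 25 []) (pone 111) = true := by decide +kernel

end Cfsg.Agent.LyG2x94
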