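import Cfsg.Agent.LyG2x94.PMat
import Cfsg.Agent.LyG2x94.Data111
import Cfsg.Agent.LyG2x94.DataWords

/-!
# Relators in the representation of degree 111
-/

set_option autoImplicit false
set_option maxRecDepth 100000

namespace Cfsg.Agent.LyG2x94

theorem rel_ok37 : pwordIs 111 (ptab 111 tabs111) (relWords.getD 37 []) (pone 111) = true := by decide +kernel

theorem rel_ok38 : pwordIs 111 (ptab 111 tabs111) (relWords.getD 38 []) (pone 111) = true := by decide +kernel

theorem rel_ok39 : pwordIs 111 (ptab 111 tabs111) (relWords.getD 39 []) (pone 111) = true := by decide +kernel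

theorem rel_ok40 : pwordIs 111 (ptab 111 tabs111) (relWords.getD 40 []) (pone 111) = true := by decide +kernel

theorem rel_ok41 : pwordIs 111 (ptab 111 tabs111) (relWords.getD 41 []) (pone 111) = true := by decide +kernel

theorem rel_ok42 : pwordIs 111 (ptab 111 tabs111) (relWords.getD 42 []) (pone 111) = true := by decide +kernel

theorem rel_ok43 : pwordIs 111 (ptab 111 tabs111) (relWords.getD 43 []) (pone 111) = true := by decide +kernel

theorem rel_ok44 : pwordIs 111 (ptab 111 tabs111) (relWords.getD 44 []) (pone 111) = true := by decide +kernel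

theorem rel_ok45 : pwordIs 111 (ptab 111 tabs111) (relWords.getD 45 []) (pone 111) = true := by decide +kernel

theorem rel_ok46 : pwordIs 111 (ptab 111 tabs111) (relWords.getD 46 []) (pone 111) = true := by decide +kernel

theorem rel_ok47 : pwordIs 111 (ptab 111 tabs111) (relWords.getD 47 []) (pone 111) = true := by decide +kernel

theorem rel_ok48 : pwordIs 111 (ptab 111 tabs111) (relWords.getD 48 []) (pone 111) = true := by decide +kernel

theorem rel_ok49 : pwordIs 111 (ptab 111 tabs111) (relWords.getD 49 []) (pone 111) = true := by decide +kernel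

theorem rel_ok50 : pwordIs 111 (ptab 111 tabs111) (relWords.getD 50 []) (pone 111) = true := by decide +kernel

theorem rel_ok51 : pwordIs 111 (ptab 111 tabs111) (relWords.getD 51 []) (pone 111) = true := by decide +kernel

theorem rel_ok52 : pwordIs 111 (ptab 111 tabs111) (relWords.getD 52 []) (pone 111) = true := by decide +kernel

theorem rel_ok53 : pwordIs 111 (ptab 111 tabs111) (relWords.getD 53 []) (pone 111) = true := by decide +kernel

theorem rel_ok54 : pwordIs 111 (ptab 111 tabs111) (relWords.getD 54 []) (pone 111) = true := by decide +kernel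

theorem rel_ok55 : pwordIs 111 (ptab 111 tabs111) (relWords.getD 55 []) (pone 111) = true := by decide +kernel

theorem rel_ok56 : pwordIs 111 (ptab 111 tabs111) (relWords.getD 56 []) (pone 111) = true := by decide +kernel

theorem rel_ok57 : pwordIs 111 (ptab 111 tabs111) (relWords.getD 57 []) (pone 111) = true := by decide +kernel

theorem rel_ok58 : pwordIs 111 (ptab 111 tabs111) (relWords.getD 58 []) (pone 111) = true := by decide +kernel

theorem rel_ok59 : pwordIs 111 (ptab 111 tabs111) (relWords.getD 59 []) (pone 111) = true := by decide +kernel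

theorem rel_ok60 : pwordIs 111 (ptab 111 tabs111) (relWords.getD 60 []) (pone 111) = true := by decide +kernel

theorem rel_ok61 : pwordIs 111 (ptab 111 tabs111) (relWords.getD 61 []) (pone 111) = true := by decide +kernel

theorem rel_ok62 : pwordIs 111 (ptab 111 tabs111) (relWords.getD 62 []) (pone 111) = true := by decide +kernel

theorem rel_ok63 : pwordIs 111 (ptab 111 tabs111) (relWords.getD 63 []) (pone 111) = true := by decide +kernel

theorem rel_ok64 : pwordIs 111 (ptab 111 tabs111) (relWords.getD 64 []) (pone 111) = true := by decide +kernel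

theorem rel_ok65 : pwordIs 111 (ptab 111 tabs111) (relWords.getD 65 []) (pone 111) = true := by decide +kernel

theorem rel_ok66 : pwordIs 111 (ptab 111 tabs111) (relWords.getD 66 []) (pone 111) = true := by decide +kernel

theorem rel_ok67 : pwordIs 111 (ptab 111 tabs111) (relWords.getD 67 []) (pone 111) = true := by decide +kernel

theorem rel_ok68 : pwordIs 111 (ptab 111 tabs111) (relWords.getD 68 []) (pone 111) = true := by decide +kernel

theorem rel_ok69 : pwordIs 111 (ptab 111 tabs111) (relWords.getD 69 []) (pone 111) = true := by decide +kernel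

theorem rel_ok70 : pwordIs 111 (ptab 111 tabs111) (relWords.getD 70 []) (pone 111) = true := by decide +kernel

theorem rel_ok71 : pwordIs 111 (ptab 111 tabs111) (relWords.getD 71 []) (pone 111) = true := by decide +kernel

theorem rel_ok72 : pwordIs 111 (ptab 111 tabs111) (relWords.getD 72 []) (pone 111) = true := by decide +kernel

theorem rel_ok73 : pwordIs 111 (ptab 111 tabs111) (relWords.getD 73 []) (pone 111) = true := by decide +kernel

theorem rel_ok74 : pwordIs 111 (ptab 111 tabs111) (relWords.getD 74 []) (pone 111) = true := by decide +kernel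

theorem rel_ok75 : pwordIs 111 (ptab 111 tabs111) (relWords.getD 75 []) (pone 111) = true := by decide +kernel

theorem rel_ok76 : pwordIs 111 (ptab 111 tabs111) (relWords.getD 76 []) (pone 111) = true := by decide +kernel

theorem rel_ok77 : pwordIs 111 (ptab 111 tabs111) (relWords.getD 77 []) (pone 111) = true := by decide +kernel

theorem rel_ok78 : pwordIs 111 (ptab 111 tabs111) (relWords.getD 78 []) (pone 111) = true := by decide +kernel

theorem rel_ok79 : pwordIs 111 (ptab 111 tabs111) (relWords.getD 79 []) (pone 111) = true := by decide +kernel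

theorem rel_ok80 : pwordIs 111 (ptab 111 tabs111) (relWords.getD 80 []) (pone 111) = true := by decide +kernel

end Cfsg.Agent.LyG2x94
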