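import Cfsg.Agent.LyG2x94.PMat
import Cfsg.Agent.LyG2x94.Data111
import Cfsg.Agent.LyG2x94.DataWords

/-!
# Relators in the representation of degree 111
-/

set_option autoImplicit false
set_option maxRecDepth 100000

namespace Cfsg.Agent.LyG2x94

theorem rel_ok81 : pwordIs 111 (ptab 111 tabs111) (relWords.getD 81 []) (pone 111) = true := by decide +kernel

theorem rel_ok82 : pwordIs 111 (ptab 111 tabs111) (relWords.getD 82 []) (pone 111) = true := by decide +kernel

theorem rel_ok83 : pwordIs 111 (ptab 111 tabs111) (relWords.getD 83 []) (pone 111) = true := by decide +kernel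

theorem rel_ok84 : pwordIs 111 (ptab 111 tabs111) (relWords.getD 84 []) (pone 111) = true := by decide +kernel

theorem rel_ok85 : pwordIs 111 (ptab 111 tabs111) (relWords.getD 85 []) (pone 111) = true := by decide +kernel

end Cfsg.Agent.LyG2x94
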