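import Cfsg.Agent.LyG2x94.PMat

/-!
# Invertible matrices from tables of numerals
-/

set_option autoImplicit false

namespace Cfsg.Agent.LyG2x94

open Cfsg.Agent.CosetEnum

/-- The inverse letter. -/
def ivl (Is : List ℕ) (l : ℕ) : ℕ := Is.getD l l

/-- All letters are reduced and have their inverse. -/
noncomputable def tabB (n : ℕ) (Ts Is : List ℕ) : Bool :=
  Ts.all (pokB n) && Nat.beq Is.length Ts.length &&
    (List.range Ts.length).all (fun l => pwordIs n (ptab n Ts) [l, ivl Is l] (pone n))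

variable {n : ℕ} {Ts Is : List ℕ}

theorem tab_pair (hn : 0 < n) (hn' : n ≤ 255) (h : tabB n Ts Is = true) (l : ℕ) :
    pmat n (ptab n Ts l) * pmat n (ptab n Ts (ivl Is l)) = 1 := by
  simp only [tabB, Bool.and_eq_true] at h
  rcases Nat.lt_or_ge l Ts.length with hl | hl
  · have hw := pwordIs_spec hn hn' (ptab_ok hn h.1.1)
      (List.all_eq_true.1 h.2 l (List.mem_range.2 hl))
    rw [(pone_spec hn).2] at hw
    simpa using hw
  · have hi : ivl Is l = l := List.getD_eq_default _ _ (by rw [Nat.eq_of_beq_eq_true h.1.2]; exact hl)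
    rw [hi, ptab, List.getD_eq_default _ _ hl, (pone_spec hn).2, one_mul]

/-- The letters as invertible matrices. -/
def punit (hn : 0 < n) (hn' : n ≤ 255) (h : tabB n Ts Is = true) (l : ℕ) : GL (Fin n) (ZMod 5) :=
  ⟨pmat n (ptab n Ts l), pmat n (ptab n Ts (ivl Is l)), tab_pair hn hn' h l,
    mul_eq_one_comm.1 (tab_pair hn hn' h l)⟩

theorem punit_inv (hn : 0 < n) (hn' : n ≤ 255) (h : tabB n Ts Is = true) {x y : ℕ} (hxy : ivl Is x = y) :
    punit hn hn' h y = (punit hn hn' h x)⁻¹ := by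
  subst hxy
  exact Units.ext rfl

theorem coe_punit_word (hn : 0 < n) (hn' : n ≤ 255) (h : tabB n Ts Is = true) : ∀ W : List ℕ,
    ((evalWord (punit hn hn' h) W : GL (Fin n) (ZMod 5)) : Matrix (Fin n) (Fin n) (ZMod 5)) =
      (W.map fun l => pmat n (ptab n Ts l)).prod
  | [] => rfl
  | l :: ls => by
    rw [List.map_cons, List.prod_cons, ← coe_punit_word hn hn' h ls]
    rfl

theorem punit_word (hn : 0 < n) (hn' : n ≤ 255) (h : tabB n Ts Is = true) {W : List ℕ} {M : ℕ}
    (hw : pwordIs n (ptab n Ts) W M = true) :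
    ((evalWord (punit hn hn' h) W : GL (Fin n) (ZMod 5)) : Matrix (Fin n) (Fin n) (ZMod 5)) = pmat n M := by
  have h' := h
  simp only [tabB, Bool.and_eq_true] at h'
  rw [coe_punit_word, pwordIs_spec hn hn' (ptab_ok hn h'.1.1) hw]

theorem punit_word_one (hn : 0 < n) (hn' : n ≤ 255) (h : tabB n Ts Is = true) {W : List ℕ}
    (hw : pwordIs n (ptab n Ts) W (pone n) = true) : evalWord (punit hn hn' h) W = 1 :=
  Units.ext ((punit_word hn hn' h hw).trans (pone_spec hn).2)

theorem coe_punit (hn : 0 < n) (hn' : n ≤ 255) (h : tabB n Ts Is = true) (l : ℕ) :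
    (punit hn hn' h l : Matrix (Fin n) (Fin n) (ZMod 5)) = pmat n (ptab n Ts l) := rfl

theorem pmat_ne_one {N : ℕ} (i j : Fin n) (hij : i ≠ j)
    (h : lane N (n * (i : ℕ) + (j : ℕ)) % 5 ≠ 0) : pmat n N ≠ 1 := by
  intro e
  have h2 := congrFun (congrFun e i) j
  rw [Matrix.one_apply_ne hij] at h2
  change ((lane N (n * (i : ℕ) + (j : ℕ)) : ℕ) : ZMod 5) = 0 at h2
  rw [ZMod.natCast_eq_zero_iff, Nat.dvd_iff_mod_eq_zero] at h2
  exact h h2

end Cfsg.Agent.LyG2x94
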