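import Cfsg.Agent.LyG2x94.Rel111x0
import Cfsg.Agent.LyG2x94.Rel111x1
import Cfsg.Agent.LyG2x94.Rel111x2
import Cfsg.Agent.LyG2x94.Rel111x3
import Cfsg.Agent.LyG2x94.Units
import Cfsg.Agent.LyG2x94.Ly

/-!
# A representation of `Ly` of degree 111 over the field with five elements
-/

set_option autoImplicit false
set_option maxRecDepth 100000

namespace Cfsg.Agent.LyG2x94

open Cfsg.Agent.CosetEnum
open Cfsg.Spor.Ly (Gen)

/-- Inverse letters. -/
def ivs111 : List ℕ := [1, 0, 3, 2, 5, 4, 7, 6, 9, 8]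

theorem tab111_ok : tabB 111 tabs111 ivs111 = true := by decide +kernel

/-- The ten letters. -/
def gl111 (l : ℕ) : GL (Fin 111) (ZMod 5) := punit (by norm_num) (by norm_num) tab111_ok l

/-- The free value of a letter. -/
def fw10 : ℕ → FreeGroup Gen
  | 0 => .of .a
  | 1 => (.of .a)⁻¹
  | 2 => .of .b
  | 3 => (.of .b)⁻¹
  | 4 => .of .c
  | 5 => (.of .c)⁻¹
  | 6 => .of .d
  | 7 => (.of .d)⁻¹
  | 8 => .of .z
  | 9 => (.of .z)⁻¹
  | _ => 1

/-- Images of the five generators. -/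
def baseImg : Gen → GL (Fin 111) (ZMod 5)
  | .a => gl111 0
  | .b => gl111 2
  | .c => gl111 4
  | .d => gl111 6
  | .z => gl111 8
  | _ => 1

theorem lift_fw10 {l : ℕ} (hl : l < 10) : FreeGroup.lift baseImg (fw10 l) = gl111 l := by
  have hi : ∀ x y, ivl ivs111 x = y → gl111 y = (gl111 x)⁻¹ := fun x y h =>
    punit_inv _ _ tab111_ok h
  interval_cases l <;> simp only [fw10, map_inv, FreeGroup.lift_apply_of, baseImg]
  exacts [(hi 0 1 rfl).symm, (hi 2 3 rfl).symm, (hi 4 5 rfl).symm, (hi 6 7 rfl).symm, (hi 8 9 rfl).symm]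

theorem lift_word : ∀ W : List ℕ, (∀ l ∈ W, l < 10) →
    FreeGroup.lift baseImg (evalWord fw10 W) = evalWord gl111 W
  | [], _ => map_one _
  | l :: ls, h => by
    show FreeGroup.lift baseImg (fw10 l * evalWord fw10 ls) = gl111 l * evalWord gl111 ls
    rw [map_mul, lift_fw10 (h l List.mem_cons_self),
      lift_word ls fun x hx => h x (List.mem_cons_of_mem _ hx)]

/-- A generator as a word in five of them. -/
def tau (g : Gen) : FreeGroup Gen := evalWord fw10 (genWord g)

theorem tau_ok : ((List.range 86).all fun k =>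
    (relWords.getD k []).all (fun l => Nat.blt l 10) &&
      decide (FreeGroup.lift tau (Cfsg.Spor.Ly.extra.getD k 1) = evalWord fw10 (relWords.getD k []))) = true := by
  decide +kernel

theorem rel111_ok : ∀ k < 86, pwordIs 111 (ptab 111 tabs111) (relWords.getD k []) (pone 111) = true := by
  intro k hk
  interval_cases k
  exacts [rel_ok0, rel_ok1, rel_ok2, rel_ok3, rel_ok4, rel_ok5, rel_ok6, rel_ok7, rel_ok8, rel_ok9, rel_ok10, rel_ok11, rel_ok12, rel_ok13, rel_ok14, rel_ok15, rel_ok16, rel_ok17, rel_ok18, rel_ok19, rel_ok20, rel_ok21, rel_ok22, rel_ok23, rel_ok24, rel_ok25, rel_ok26, rel_ok27, rel_ok28, rel_ok29, rel_ok30, rel_ok31, rel_ok32, rel_ok33, rel_ok34, rel_ok35, rel_ok36, rel_ok37, rel_ok38, rel_ok39, rel_ok40, rel_ok41, rel_ok42, rel_ok43, rel_ok44, rel_ok45, rel_ok46, rel_ok47, rel_ok48, rel_ok49, rel_ok50, rel_ok51, rel_ok52, rel_ok53, rel_ok54, rel_ok55, rel_ok56, rel_ok57, rel_ok58, rel_ok59, rel_ok60, rel_ok61, rel_ok62, rel_ok63,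 rel_ok64, rel_ok65, rel_ok66, rel_ok67, rel_ok68, rel_ok69, rel_ok70, rel_ok71, rel_ok72, rel_ok73, rel_ok74, rel_ok75, rel_ok76, rel_ok77, rel_ok78, rel_ok79, rel_ok80, rel_ok81, rel_ok82, rel_ok83, rel_ok84, rel_ok85]

/-- Images of the generators. -/
def img (g : Gen) : GL (Fin 111) (ZMod 5) := FreeGroup.lift baseImg (tau g)

theorem img_rels : ∀ r ∈ lyRels, FreeGroup.lift img r = 1 := by
  rintro r (⟨x, hx, _⟩ | hr)
  · simp [Cfsg.Spor.coxNodes, Cfsg.Spor.Ly.edges] at hx
  · obtain ⟨k, hk, rfl⟩ := List.getElem_of_mem (show r ∈ Cfsg.Spor.Ly.extra from hr)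
    have hk' : k < 86 := extra_length ▸ hk
    have he : FreeGroup.lift img = (FreeGroup.lift baseImg).comp (FreeGroup.lift tau) :=
      FreeGroup.ext_hom _ _ fun g => by simp [img]
    have h := List.all_eq_true.1 tau_ok k (List.mem_range.2 hk')
    simp only [Bool.and_eq_true, List.all_eq_true, decide_eq_true_eq] at h
    rw [← List.getD_eq_getElem _ 1 hk, he, MonoidHom.comp_apply, h.2,
      lift_word _ fun l hl => Nat.le_of_ble_eq_true (h.1 l hl)]
    exact punit_word_one (by norm_num) (by norm_num) tab111_ok (rel111_ok k hk')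

/-- The representation. -/
def rho : Cfsg.Spor.Ly →* GL (Fin 111) (ZMod 5) := PresentedGroup.toGroup img_rels

theorem a_entry : lane (ptab 111 tabs111 0)
    (111 * ((0 : Fin 111) : ℕ) + ((1 : Fin 111) : ℕ)) % 5 ≠ 0 := by decide +kernel

theorem gl111_zero_ne : gl111 0 ≠ 1 := by
  intro h
  have hc : ((gl111 0 : GL (Fin 111) (ZMod 5)) : Matrix (Fin 111) (Fin 111) (ZMod 5)) =
      pmat 111 (ptab 111 tabs111 0) := coe_punit (by norm_num) (by norm_num) tab111_ok 0
  rw [h, Units.val_one] at hc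
  exact pmat_ne_one (0 : Fin 111) (1 : Fin 111) (by decide) a_entry hc.symm

theorem mk_a_ne : mkLy (.of Gen.a) ≠ 1 := by
  intro h
  have h2 : rho (PresentedGroup.of Gen.a) = 1 := by
    show rho (mkLy (.of Gen.a)) = 1
    rw [h, map_one]
  rw [rho, PresentedGroup.toGroup.of] at h2
  have h3 : img Gen.a = gl111 0 := by
    have e : tau Gen.a = fw10 0 := by decide +kernel
    rw [img, e, lift_fw10 (by norm_num)]
  exact gl111_zero_ne (h3.symm.trans h2)

end Cfsg.Agent.LyG2x94
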